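import Groth.Agent.SteinUB.Conn
import Groth.Agent.GeomLoci.ConnFlat
import Groth.Agent.S1364

/-!
A proper flat morphism with geometrically reduced fibres, connected source and base, and a section has geometrically
connected fibres.
-/

set_option autoImplicit false
set_option linter.style.haveILetI false
set_option linter.unusedSectionVars false
set_option backward.isDefEq.respectTransparency false
set_option backward.isDefEq.respectTransparency.types false

universe u

open CategoryTheory CategoryTheory.Limits AlgebraicGeometry TopologicalSpace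

namespace Groth.Agent.SteinUB

section Points

variable {Ω : Type u} [Field Ω] [IsAlgClosed Ω] {Z : Scheme.{u}} (q : Z ⟶ Spec (CommRingCat.of Ω)) [IsIntegralHom q]
include q

theorem isClopen_basicOpen_of_integral (a : Γ(Z, ⊤)) : IsClopen (Z.basicOpen a : Set Z) := by
  haveI : IsAffine Z := isAffine_of_isAffineHom q
  haveI : Ring.KrullDimLE 0 Γ(Z, ⊤) := by
    refine Ring.KrullDimLE.mk₀ fun I hI => ?_
    let φ : Ω →+* Γ(Z, ⊤) := q.appTop.hom.comp (Scheme.ΓSpecIso (CommRingCat.of Ω)).inv.hom
    letI := φ.toAlgebra
    haveI : Algebra.IsIntegral Ω Γ(Z, ⊤) := ⟨(RingHom.isIntegral_of_surjective _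
      (Scheme.ΓSpecIso (CommRingCat.of Ω)).commRingCatIsoToRingEquiv.symm.surjective).trans _ _
      (IsIntegralHom.isIntegral_app q ⊤ (isAffineOpen_top _))⟩
    haveI := hI
    refine Ideal.isMaximal_of_isIntegral_of_isMaximal_comap (R := Ω) I ?_
    haveI : (I.comap (algebraMap Ω Γ(Z, ⊤))).IsPrime := inferInstance
    rw [((Ideal.eq_bot_or_top _).resolve_right Ideal.IsPrime.ne_top' :
      I.comap (algebraMap Ω Γ(Z, ⊤)) = ⊥)]
    exact Ideal.bot_isMaximal
  refine ⟨?_, (Z.basicOpen a).isOpen⟩
  have h : IsClosed (PrimeSpectrum.basicOpen a : Set (PrimeSpectrum Γ(Z, ⊤))) := by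
    rw [← PrimeSpectrum.localization_away_comap_range (Localization.Away a) a]
    refine PrimeSpectrum.isClosed_range_of_stableUnderSpecialization _ fun p r hpr hp => ?_
    have h1 : p.asIdeal ≤ r.asIdeal := (PrimeSpectrum.le_iff_specializes p r).2 hpr
    have h2 : p = r := PrimeSpectrum.ext
      ((Ideal.isMaximal_of_isPrime p.asIdeal).eq_of_le r.2.ne_top h1)
    exact h2 ▸ hp
  rw [← Scheme.toSpecΓ_preimage_basicOpen]
  exact h.preimage Z.toSpecΓ.continuous

theorem t1_and_totallyDisconnected : T1Space Z ∧ TotallyDisconnectedSpace Z := by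
  haveI : IsAffine Z := isAffine_of_isAffineHom q
  have key : ∀ x y : Z, x ≠ y → ∃ U : Set Z, IsClopen U ∧ x ∈ U ∧ y ∉ U := by
    intro x y hxy
    have h : ∃ a : Γ(Z, ⊤), ¬ (x ∈ Z.basicOpen a ↔ y ∈ Z.basicOpen a) := by
      by_contra hc
      push Not at hc
      refine hxy (Z.isoSpec.hom.homeomorph.injective (PrimeSpectrum.ext (Ideal.ext fun a => ?_)))
      have := hc a
      rw [← Scheme.toSpecΓ_preimage_basicOpen] at this
      exact not_iff_not.1 this
    obtain ⟨a, ha⟩ := h
    by_cases hx : x ∈ Z.basicOpen a
    · exact ⟨_, isClopen_basicOpen_of_integral q a, hx, fun hy => ha ⟨fun _ => hy, fun _ => hx⟩⟩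
    · refine ⟨_, (isClopen_basicOpen_of_integral q a).compl, hx, fun hy => ha ?_⟩
      exact ⟨fun h => absurd h hx, fun h => absurd h hy⟩
  refine ⟨⟨fun x => ?_⟩, ?_⟩
  · rw [← isOpen_compl_iff, isOpen_iff_forall_mem_open]
    intro y hy
    obtain ⟨U, hU, hyU, hxU⟩ := key y x hy
    exact ⟨U, fun z hz h => hxU (h ▸ hz), hU.isOpen, hyU⟩
  · refine ⟨fun t _ ht x hx y hy => ?_⟩
    by_contra hxy
    obtain ⟨U, hU, hxU, hyU⟩ := key x y hxy
    exact hyU (ht.subset_isClopen hU ⟨x, hx, hxU⟩ hy)

theorem isIso_residue (z : Z) : IsIso (Z.fromSpecResidueField z ≫ q) := by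
  haveI := (t1_and_totallyDisconnected q).1
  haveI : IsClosedImmersion (Z.fromSpecResidueField z) :=
    isClosed_singleton_iff_isClosedImmersion.1 isClosed_singleton
  obtain ⟨ψ, hψ⟩ : ∃ ψ : CommRingCat.of Ω ⟶ Z.residueField z, Spec.map ψ = Z.fromSpecResidueField z ≫ q :=
    ⟨Spec.preimage _, Spec.map_preimage _⟩
  have hint : ψ.hom.IsIntegral := by
    rw [← IsIntegralHom.SpecMap_iff, hψ]; infer_instance
  letI : Algebra Ω (Z.residueField z) := ψ.hom.toAlgebra
  haveI : Algebra.IsIntegral Ω (Z.residueField z) := ⟨hint⟩
  haveI : IsIso ψ := (ConcreteCategory.isIso_iff_bijective _).2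
    (IsAlgClosed.algebraMap_bijective_of_isIntegral (k := Ω) (K := Z.residueField z))
  rw [← hψ]
  infer_instance

/-- The section through a point. -/
noncomputable def secAt (z : Z) : Spec (CommRingCat.of Ω) ⟶ Z :=
  haveI := isIso_residue q z
  inv (Z.fromSpecResidueField z ≫ q) ≫ Z.fromSpecResidueField z

theorem secAt_comp (z : Z) : secAt q z ≫ q = 𝟙 _ := by
  haveI := isIso_residue q z
  rw [secAt, Category.assoc, IsIso.inv_hom_id]

theorem secAt_apply (z : Z) (w : Spec (CommRingCat.of Ω)) : secAt q z w = z := by
  haveI := isIso_residue q z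
  exact Scheme.fromSpecResidueField_apply z _

theorem eq_secAt (s : Spec (CommRingCat.of Ω) ⟶ Z) (hs : s ≫ q = 𝟙 _) :
    s = secAt q (s (IsLocalRing.closedPoint Ω)) := by
  haveI := isIso_residue q (s (IsLocalRing.closedPoint Ω))
  have h := Scheme.descResidueField_stalkClosedPointTo_fromSpecResidueField Ω Z s
  set φ := Spec.map (Z.descResidueField (Scheme.stalkClosedPointTo s))
  have h1 : φ = inv (Z.fromSpecResidueField (s (IsLocalRing.closedPoint Ω)) ≫ q) := by
    rw [← cancel_mono (Z.fromSpecResidueField (s (IsLocalRing.closedPoint Ω)) ≫ q), IsIso.inv_hom_id,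
      ← Category.assoc, h, hs]
  rw [secAt, ← h1, h]

/-- Sections of an integral scheme over an algebraically closed field are its points. -/
noncomputable def secEquiv : {s : Spec (CommRingCat.of Ω) ⟶ Z // s ≫ q = 𝟙 _} ≃ Z where
  toFun s := s.1 (IsLocalRing.closedPoint Ω)
  invFun z := ⟨secAt q z, secAt_comp q z⟩
  left_inv s := Subtype.ext (eq_secAt q s.1 s.2).symm
  right_inv z := secAt_apply q z _

theorem card_connectedComponents : ENat.card (_root_.ConnectedComponents ↥Z) =
    ENat.card {s : Spec (CommRingCat.of Ω) ⟶ Z // s ≫ q = 𝟙 _} := by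
  haveI := (t1_and_totallyDisconnected q).2
  exact (ENat.card_congr ((secEquiv q).trans (Equiv.ofBijective _
    ⟨fun a b h => by
      have := ConnectedComponents.coe_eq_coe'.1 h
      rw [connectedComponent_eq_singleton] at this
      exact this,
    ConnectedComponents.surjective_coe⟩))).symm

end Points

variable {X S : Scheme.{u}}

/-- The count of geometric points of the Stein factor. -/
theorem card_lifts (f : X ⟶ S) [IsProper f] (Ω : Type u) [Field Ω] [IsAlgClosed Ω]
    (x : Spec (CommRingCat.of Ω) ⟶ S) :
    ENat.card {y : Spec (CommRingCat.of Ω) ⟶ f.normalization // y ≫ f.fromNormalization = x} =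
      MoreMor.nGeomConnComp f (x (IsLocalRing.closedPoint Ω)) := by
  let g := f.fromNormalization
  let h := pullback.snd g x
  haveI : IsIntegralHom h := MorphismProperty.pullback_snd _ _ inferInstance
  let pt : Spec (CommRingCat.of Ω) := IsLocalRing.closedPoint Ω
  have e1 : {y : Spec (CommRingCat.of Ω) ⟶ f.normalization // y ≫ g = x} ≃
      {s : Spec (CommRingCat.of Ω) ⟶ pullback g x // s ≫ h = 𝟙 _} :=
    { toFun := fun y => ⟨pullback.lift y.1 (𝟙 _) (y.2.trans (Category.id_comp x).symm), pullback.lift_snd _ _ _⟩
      invFun := fun s => ⟨s.1 ≫ pullback.fst g x, by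
        rw [Category.assoc, pullback.condition, ← Category.assoc, s.2, Category.id_comp]⟩
      left_inv := fun y => Subtype.ext (pullback.lift_fst _ _ _)
      right_inv := fun s => Subtype.ext (pullback.hom_ext (pullback.lift_fst _ _ _)
        ((pullback.lift_snd _ _ _).trans s.2.symm)) }
  rw [ENat.card_congr e1, ← card_connectedComponents h, SteinLib.nGeomConnComp_eq f,
    ← (Triage.GeomCount.nGeom_baseChange g h _ x (IsPullback.of_hasPullback g x) pt).2]
  haveI : Subsingleton ↥(Spec (CommRingCat.of Ω)) := inferInstanceAs (Subsingleton (PrimeSpectrum Ω))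
  haveI : IsClosedImmersion ((Spec (CommRingCat.of Ω)).fromSpecResidueField pt) :=
    isClosed_singleton_iff_isClosedImmersion.1 (isClosed_discrete _)
  haveI : Surjective ((Spec (CommRingCat.of Ω)).fromSpecResidueField pt) :=
    ⟨fun z => ⟨IsLocalRing.closedPoint _, Subsingleton.elim _ _⟩⟩
  haveI hi : IsIso ((Spec (CommRingCat.of Ω)).fromSpecResidueField pt) :=
    isIso_of_isClosedImmersion_of_surjective _
  let κ := (Spec (CommRingCat.of Ω)).residueField pt
  haveI : IsAlgClosed κ := by
    let ι₁ := (Spec (CommRingCat.of Ω)).fromSpecResidueField pt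
    let ψ : CommRingCat.of Ω ⟶ κ := Spec.preimage ι₁
    let ψ' : κ ⟶ CommRingCat.of Ω := Spec.preimage (inv ι₁)
    let e : CommRingCat.of Ω ≅ κ := ⟨ψ, ψ',
      Spec.map_injective (by rw [Spec.map_comp, Spec.map_preimage, Spec.map_preimage, IsIso.inv_hom_id, Spec.map_id]),
      Spec.map_injective (by rw [Spec.map_comp, Spec.map_preimage, Spec.map_preimage, IsIso.hom_inv_id, Spec.map_id])⟩
    exact IsAlgClosed.of_ringEquiv Ω κ e.commRingCatIsoToRingEquiv
  haveI : IsIso (Spec.map (CommRingCat.ofHom (algebraMap κ (SeparableClosure κ)))) := by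
    haveI : IsIso (CommRingCat.ofHom (algebraMap κ (SeparableClosure κ))) :=
      (ConcreteCategory.isIso_iff_bijective _).2
        (IsAlgClosed.algebraMap_bijective_of_isIntegral (k := κ) (K := SeparableClosure κ))
    infer_instance
  let e : MoreMor.geomFiber h pt ≅ pullback g x :=
    asIso (pullback.fst (h.fiberToSpecResidueField pt)
      (Spec.map (CommRingCat.ofHom (algebraMap κ (SeparableClosure κ))))) ≪≫
    asIso (pullback.fst h ((Spec (CommRingCat.of Ω)).fromSpecResidueField pt))
  exact (Triage.GeomCount.card_connectedComponents_eq e.hom.homeomorph e.hom.homeomorph.continuous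
    e.hom.homeomorph.surjective fun z => e.hom.homeomorph.isPreconnected_preimage.2
      isPreconnected_connectedComponent).symm

theorem universallyOpen_fromNormalization (f : X ⟶ S) [IsProper f] [Flat f] [LocallyOfFinitePresentation f] :
    UniversallyOpen f.fromNormalization := by
  haveI := SteinLib.geometricallyConnected_toNormalization_general f
  rw [UniversallyOpen.eq]
  intro P T i₁ i₂ g' hsq
  let n := pullback.snd f.toNormalization i₁
  haveI : Surjective n := MorphismProperty.pullback_snd _ _ inferInstance
  have hsq' : IsPullback (pullback.fst f.toNormalization i₁) (n ≫ g') f i₂ := by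
    have h := (IsPullback.of_hasPullback f.toNormalization i₁).paste_vert hsq.flip
    rwa [f.toNormalization_fromNormalization] at h
  haveI : UniversallyOpen (n ≫ g') := MorphismProperty.of_isPullback hsq' inferInstance
  intro U hU
  have hopen := (n ≫ g').isOpenMap _ (hU.preimage n.continuous)
  have heq : (n ≫ g') '' (n ⁻¹' U) = g' '' U := by
    ext t
    constructor
    · rintro ⟨a, ha, rfl⟩
      exact ⟨_, ha, rfl⟩
    · rintro ⟨b, hb, rfl⟩
      obtain ⟨a, rfl⟩ := n.surjective b
      exact ⟨a, hb, rfl⟩
  rw [heq] at hopen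
  exact hopen

/-- The image of a section in the Stein factor is open. -/
theorem isOpen_range_section (f : X ⟶ S) [IsProper f] [Flat f] [LocallyOfFinitePresentation f]
    [GeometricallyReduced f] (τ : S ⟶ f.normalization) (hτ : τ ≫ f.fromNormalization = 𝟙 S) :
    IsOpen (Set.range τ) := by
  haveI := universallyOpen_fromNormalization f
  let N := f.normalization
  let g : N ⟶ S := f.fromNormalization
  rw [isOpen_iff_forall_mem_open]
  rintro _ ⟨s, rfl⟩
  obtain ⟨W, hW, hWcount⟩ := GeomLoci.nGeomConnComp_le_nhds_flat f s
  let Ω₀ := AlgebraicClosure (S.residueField s)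
  let ξ : Spec (CommRingCat.of Ω₀) ⟶ S :=
    Spec.map (CommRingCat.ofHom (algebraMap (S.residueField s) Ω₀)) ≫ S.fromSpecResidueField s
  have hξ : ξ (IsLocalRing.closedPoint Ω₀) = s := by
    show S.fromSpecResidueField s _ = s
    exact Scheme.fromSpecResidueField_apply _ _
  have hfin : MoreMor.nGeomConnComp f s < ⊤ := lt_top_iff_ne_top.2 (GeomLoci.nGeomConnComp_ne_top f s)
  obtain ⟨n, hn⟩ := ENat.ne_top_iff_exists.1 hfin.ne
  have hn1 : 1 ≤ n := by
    have h : 1 ≤ ENat.card {y : Spec (CommRingCat.of Ω₀) ⟶ N // y ≫ g = ξ} := by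
      haveI : Nonempty {y : Spec (CommRingCat.of Ω₀) ⟶ N // y ≫ g = ξ} :=
        ⟨⟨ξ ≫ τ, by rw [Category.assoc, hτ, Category.comp_id]⟩⟩
      exact Order.one_le_iff_pos.2 ENat.card_pos
    rw [card_lifts f Ω₀ ξ, hξ, ← hn] at h
    exact_mod_cast h
  -- moduli of geometric points distinct from each other and from the section
  have step : ∀ m : ℕ, m + 1 ≤ n → ∃ (P : Scheme.{u}) (p : P ⟶ S) (y : Fin m → (P ⟶ N)) (w : P),
      UniversallyOpen p ∧ p w = s ∧ (∀ i, y i ≫ g = p) ∧
      ∀ (K : Type u) [Field K] (z : Spec (CommRingCat.of K) ⟶ P),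
        (∀ i j, i ≠ j → z ≫ y i ≠ z ≫ y j) ∧ ∀ i, z ≫ y i ≠ z ≫ p ≫ τ := by
    intro m
    induction m with
    | zero =>
      intro _
      exact ⟨S, 𝟙 S, Fin.elim0, s, inferInstance, rfl, fun i => i.elim0,
        fun K _ z => ⟨fun i => i.elim0, fun i => i.elim0⟩⟩
    | succ m ih =>
      intro hm
      obtain ⟨P, p, y, w, hp, hpw, hy, hdist⟩ := ih (by omega)
      haveI := hp
      let Q := pullback p g
      let a : Fin (m + 1) → (Q ⟶ N) := Fin.cons (pullback.fst p g ≫ p ≫ τ) fun i => pullback.fst p g ≫ y i
      have ha : ∀ i, a i ≫ g = pullback.fst p g ≫ p := by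
        intro i
        refine Fin.cases ?_ (fun j => ?_) i
        · simp [a, g, hτ]
        · simp [a, hy]
      have hsnd : pullback.snd p g ≫ g = pullback.fst p g ≫ p := pullback.condition.symm
      let E : Fin (m + 1) → Set Q := fun i =>
        Set.range (pullback.fst (pullback.lift (a i) (pullback.snd p g) ((ha i).trans hsnd.symm))
          (pullback.diagonal g))
      have hE : ∀ i, IsClosed (E i) := fun i => by
        haveI : IsClosedImmersion (pullback.fst (pullback.lift (a i) (pullback.snd p g) ((ha i).trans hsnd.symm))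
          (pullback.diagonal g)) := MorphismProperty.pullback_fst _ _ inferInstance
        exact (pullback.fst (pullback.lift (a i) (pullback.snd p g) ((ha i).trans hsnd.symm))
          (pullback.diagonal g)).isClosedEmbedding.isClosed_range
      let U : Q.Opens := ⟨(⋃ i, E i)ᶜ, (isClosed_iUnion_of_finite hE).isOpen_compl⟩
      have hEmem : ∀ (K : Type u) [Field K] (z : Spec (CommRingCat.of K) ⟶ Q) (i : Fin (m + 1)),
          z ≫ a i = z ≫ pullback.snd p g → z (IsLocalRing.closedPoint K) ∈ E i := by
        intro K _ z i he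
        refine ⟨(pullback.lift z (z ≫ a i) ?_) (IsLocalRing.closedPoint K), ?_⟩
        · refine pullback.hom_ext ?_ ?_
          · simp
          · simp [he]
        · rw [← Scheme.Hom.comp_apply, pullback.lift_fst]
      have hEnot : ∀ (K : Type u) [Field K] (z : Spec (CommRingCat.of K) ⟶ Q) (i : Fin (m + 1)),
          z (IsLocalRing.closedPoint K) ∈ E i → z ≫ a i = z ≫ pullback.snd p g := by
        intro K _ z i he
        let d := pullback.fst (pullback.lift (a i) (pullback.snd p g) ((ha i).trans hsnd.symm)) (pullback.diagonal g)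
        haveI : IsClosedImmersion d := MorphismProperty.pullback_fst _ _ inferInstance
        obtain ⟨l, hl⟩ := H23.RedSub.exists_lift_closed z d (by
          rintro _ ⟨t, rfl⟩
          rw [Subsingleton.elim (α := PrimeSpectrum K) t (IsLocalRing.closedPoint K)]
          exact he)
        have hc := congrArg (fun k => k ≫ pullback.fst g g) (pullback.condition (f := pullback.lift (a i) (pullback.snd p g) ((ha i).trans hsnd.symm)) (g := pullback.diagonal g))
        have hc' := congrArg (fun k => k ≫ pullback.snd g g) (pullback.condition (f := pullback.lift (a i) (pullback.snd p g) ((ha i).trans hsnd.symm)) (g := pullback.diagonal g))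
        simp only [Category.assoc, pullback.lift_fst, pullback.lift_snd, pullback.diagonal_fst, pullback.diagonal_snd] at hc hc'
        rw [← hl, Category.assoc, Category.assoc, hc.trans hc'.symm]
      -- a new point over `w`
      let Ω := AlgebraicClosure (P.residueField w)
      let ζ : Spec (CommRingCat.of Ω) ⟶ P :=
        Spec.map (CommRingCat.ofHom (algebraMap (P.residueField w) Ω)) ≫ P.fromSpecResidueField w
      have hζ : ζ (IsLocalRing.closedPoint Ω) = w := by
        show P.fromSpecResidueField w _ = w
        exact Scheme.fromSpecResidueField_apply _ _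
      let L := {v : Spec (CommRingCat.of Ω) ⟶ N // v ≫ g = ζ ≫ p}
      have hL : ENat.card L = n := by
        rw [card_lifts f Ω (ζ ≫ p), Scheme.Hom.comp_apply, hζ, hpw, hn]
      let old : Fin (m + 1) → L := Fin.cons ⟨ζ ≫ p ≫ τ, by simp [g, hτ]⟩ fun i => ⟨ζ ≫ y i, by rw [Category.assoc, hy]⟩
      obtain ⟨v, hv⟩ : ∃ v : L, ∀ i, old i ≠ v := by
        by_contra hc
        push Not at hc
        haveI : Finite L := Finite.of_surjective old hc
        have h1 := Nat.card_le_card_of_surjective old hc
        rw [Nat.card_fin] at h1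
        have h2 := ENat.card_eq_coe_natCard L
        rw [hL] at h2
        have : n = Nat.card L := by exact_mod_cast h2
        omega
      let z₀ : Spec (CommRingCat.of Ω) ⟶ Q := pullback.lift ζ v.1 v.2.symm
      have hz₀ : z₀ (IsLocalRing.closedPoint Ω) ∈ U := by
        intro hmem
        obtain ⟨i, hi⟩ := Set.mem_iUnion.1 hmem
        have he := hEnot Ω z₀ i hi
        refine hv i (Subtype.ext ?_)
        revert he
        refine Fin.cases ?_ (fun j => ?_) i
        · intro he
          simpa [a, old, z₀] using he
        · intro he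
          simpa [a, old, z₀] using he
      refine ⟨U, U.ι ≫ pullback.fst p g ≫ p,
        Fin.cons (U.ι ≫ pullback.snd p g) fun i => U.ι ≫ pullback.fst p g ≫ y i, ⟨_, hz₀⟩, inferInstance, ?_,
        fun i => ?_, fun K _ z => ?_⟩
      · show p (pullback.fst p g (z₀ (IsLocalRing.closedPoint Ω))) = s
        rw [← Scheme.Hom.comp_apply z₀, pullback.lift_fst, hζ, hpw]
      · refine Fin.cases ?_ (fun j => ?_) i
        · simp [hsnd]
        · simp [hy]
      · have hnot : ∀ i, z ≫ U.ι ≫ a i ≠ z ≫ U.ι ≫ pullback.snd p g := by
          intro i he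
          have := hEmem K (z ≫ U.ι) i (by simpa using he)
          exact (z (IsLocalRing.closedPoint K)).2 (Set.mem_iUnion.2 ⟨i, this⟩)
        have h0 := hdist K (z ≫ U.ι ≫ pullback.fst p g)
        constructor
        · intro i j
          refine Fin.cases ?_ (fun i' => ?_) i <;> refine Fin.cases ?_ (fun j' => ?_) j <;> intro hij
          · exact absurd rfl hij
          · simpa [a] using fun e => hnot j'.succ (by simpa [a] using e.symm)
          · simpa [a] using fun e => hnot i'.succ (by simpa [a] using e)
          · simpa using h0.1 i' j' (fun e => hij (congrArg Fin.succ e))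
        · intro i
          refine Fin.cases ?_ (fun i' => ?_) i
          · simpa [a] using fun e => hnot 0 (by simpa [a] using e.symm)
          · simpa using h0.2 i'
  obtain ⟨m, rfl⟩ : ∃ m, n = m + 1 := ⟨n - 1, by omega⟩
  obtain ⟨P, p, y, w, hp, hpw, hy, hdist⟩ := step m le_rfl
  haveI := hp
  let Q := pullback p g
  let E : Fin m → Set Q := fun i =>
    Set.range (pullback.fst (pullback.lift (pullback.fst p g ≫ y i) (pullback.snd p g)
      (by rw [Category.assoc, hy, pullback.condition])) (pullback.diagonal g))
  have hE : ∀ i, IsClosed (E i) := fun i => by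
    haveI : IsClosedImmersion (pullback.fst (pullback.lift (pullback.fst p g ≫ y i) (pullback.snd p g)
      (by rw [Category.assoc, hy, pullback.condition])) (pullback.diagonal g)) :=
      MorphismProperty.pullback_fst _ _ inferInstance
    exact (pullback.fst (pullback.lift (pullback.fst p g ≫ y i) (pullback.snd p g)
      _) (pullback.diagonal g)).isClosedEmbedding.isClosed_range
  obtain ⟨W', hW'W, hW'o, hsW'⟩ := mem_nhds_iff.1 hW
  let U : Set Q := (⋃ i, E i)ᶜ ∩ (pullback.fst p g ≫ p) ⁻¹' W'
  have hU : IsOpen U :=
    (isClosed_iUnion_of_finite hE).isOpen_compl.inter (hW'o.preimage (pullback.fst p g ≫ p).continuous)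
  refine ⟨pullback.snd p g '' U, ?_, (pullback.snd p g).isOpenMap U hU, ?_⟩
  · rintro _ ⟨q, ⟨hqE, hqW⟩, rfl⟩
    let K := AlgebraicClosure (Q.residueField q)
    let z : Spec (CommRingCat.of K) ⟶ Q :=
      Spec.map (CommRingCat.ofHom (algebraMap (Q.residueField q) K)) ≫ Q.fromSpecResidueField q
    have hz : z (IsLocalRing.closedPoint K) = q := by
      show Q.fromSpecResidueField q _ = q
      exact Scheme.fromSpecResidueField_apply _ _
    let L := {v : Spec (CommRingCat.of K) ⟶ N // v ≫ g = z ≫ pullback.fst p g ≫ p}
    have hL : ENat.card L = (m + 1 : ℕ) := by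
      rw [card_lifts f K (z ≫ pullback.fst p g ≫ p), Scheme.Hom.comp_apply, hz,
        (hWcount _ (hW'W hqW)).2 inferInstance, hn]
    let all : Fin (m + 1) → L := Fin.cons ⟨z ≫ pullback.fst p g ≫ p ≫ τ, by simp [g, hτ]⟩
      fun i => ⟨z ≫ pullback.fst p g ≫ y i, by simp [hy]⟩
    have hinj : Function.Injective all := by
      have h0 := hdist K (z ≫ pullback.fst p g)
      intro i j
      refine Fin.cases ?_ (fun i' => ?_) i <;> refine Fin.cases ?_ (fun j' => ?_) j <;> intro hij
      · rfl
      · exact absurd (congrArg Subtype.val hij).symm (by simpa [all] using h0.2 j')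
      · exact absurd (congrArg Subtype.val hij) (by simpa [all] using h0.2 i')
      · by_contra hne
        exact absurd (congrArg Subtype.val hij) (by
          simpa [all] using h0.1 i' j' (fun e => hne (congrArg Fin.succ e)))
    haveI : Finite L := ENat.card_lt_top.1 (by rw [hL]; exact ENat.coe_lt_top _)
    have hsurj : Function.Surjective all := by
      refine (hinj.bijective_of_nat_card_le ?_).2
      have : Nat.card L = m + 1 := by
        have h := ENat.card_eq_coe_natCard L
        rw [hL] at h
        exact_mod_cast h.symm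
      rw [this, Nat.card_fin]
    obtain ⟨i, hi⟩ := hsurj ⟨z ≫ pullback.snd p g, by rw [Category.assoc, ← pullback.condition]⟩
    refine ⟨(pullback.fst p g ≫ p) q, ?_⟩
    revert hi
    refine Fin.cases ?_ (fun i' => ?_) i <;> intro hi
    · have e := congrArg (fun k : Spec (CommRingCat.of K) ⟶ N => k (IsLocalRing.closedPoint K)) (congrArg Subtype.val hi)
      simpa [all, hz] using e
    · exfalso
      refine hqE (Set.mem_iUnion.2 ⟨i', ?_⟩)
      rw [← hz]
      refine ⟨(pullback.lift z (z ≫ pullback.snd p g) ?_) (IsLocalRing.closedPoint K), ?_⟩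
      · have e : z ≫ pullback.fst p g ≫ y i' = z ≫ pullback.snd p g := by simpa [all] using congrArg Subtype.val hi
        refine pullback.hom_ext ?_ ?_
        · simp [e]
        · simp
      · rw [← Scheme.Hom.comp_apply, pullback.lift_fst]
  · let K := AlgebraicClosure (P.residueField w)
    let ζ : Spec (CommRingCat.of K) ⟶ P :=
      Spec.map (CommRingCat.ofHom (algebraMap (P.residueField w) K)) ≫ P.fromSpecResidueField w
    have hζ : ζ (IsLocalRing.closedPoint K) = w := by
      show P.fromSpecResidueField w _ = w
      exact Scheme.fromSpecResidueField_apply _ _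
    let z : Spec (CommRingCat.of K) ⟶ Q := pullback.lift ζ (ζ ≫ p ≫ τ) (by simp [g, hτ])
    refine ⟨z (IsLocalRing.closedPoint K), ⟨?_, ?_⟩, ?_⟩
    · intro hmem
      obtain ⟨i, hi⟩ := Set.mem_iUnion.1 hmem
      let d := pullback.fst (pullback.lift (pullback.fst p g ≫ y i) (pullback.snd p g)
        (by rw [Category.assoc, hy, pullback.condition])) (pullback.diagonal g)
      haveI : IsClosedImmersion d := MorphismProperty.pullback_fst _ _ inferInstance
      obtain ⟨l, hl⟩ := H23.RedSub.exists_lift_closed z d (by
        rintro _ ⟨t, rfl⟩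
        rw [Subsingleton.elim (α := PrimeSpectrum K) t (IsLocalRing.closedPoint K)]
        exact hi)
      have hc := congrArg (fun k => k ≫ pullback.fst g g) (pullback.condition (f := pullback.lift (pullback.fst p g ≫ y i) (pullback.snd p g) (by rw [Category.assoc, hy, pullback.condition])) (g := pullback.diagonal g))
      have hc' := congrArg (fun k => k ≫ pullback.snd g g) (pullback.condition (f := pullback.lift (pullback.fst p g ≫ y i) (pullback.snd p g) (by rw [Category.assoc, hy, pullback.condition])) (g := pullback.diagonal g))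
      simp only [Category.assoc, pullback.lift_fst, pullback.lift_snd, pullback.diagonal_fst, pullback.diagonal_snd] at hc hc'
      refine (hdist K ζ).2 i ?_
      have e1 : z ≫ pullback.fst p g ≫ y i = z ≫ pullback.snd p g :=
        ((congrArg (· ≫ pullback.fst p g ≫ y i) hl.symm).trans (Category.assoc _ _ _)).trans
          ((congrArg (l ≫ ·) (hc.trans hc'.symm)).trans
            ((Category.assoc _ _ _).symm.trans (congrArg (· ≫ pullback.snd p g) hl)))
      simpa [z] using e1
    · show (pullback.fst p g ≫ p) (z (IsLocalRing.closedPoint K)) ∈ W'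
      rw [← Scheme.Hom.comp_apply, pullback.lift_fst_assoc, Scheme.Hom.comp_apply, hζ, hpw]
      exact hsW'
    · rw [← Scheme.Hom.comp_apply, pullback.lift_snd, Scheme.Hom.comp_apply, hζ, Scheme.Hom.comp_apply, hpw]

/-- Connected total space, connected base and a section give geometrically connected fibres. -/
theorem geometricallyConnected_of_section (f : X ⟶ S) [IsProper f] [Flat f] [LocallyOfFinitePresentation f]
    [GeometricallyReduced f] [ConnectedSpace X] [ConnectedSpace S] (σ : S ⟶ X) (hσ : σ ≫ f = 𝟙 S) :
    GeometricallyConnected f := by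
  haveI := SteinLib.geometricallyConnected_toNormalization_general f
  let τ := σ ≫ f.toNormalization
  have hτ : τ ≫ f.fromNormalization = 𝟙 S := by
    rw [Category.assoc, f.toNormalization_fromNormalization, hσ]
  haveI : IsClosedImmersion τ := by
    haveI : IsClosedImmersion (τ ≫ f.fromNormalization) := by rw [hτ]; infer_instance
    exact IsClosedImmersion.of_comp τ f.fromNormalization
  have hclopen : IsClopen (Set.range τ) :=
    ⟨τ.isClosedEmbedding.isClosed_range, isOpen_range_section f τ hτ⟩
  haveI : PreconnectedSpace ↥f.normalization :=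
    f.toNormalization.surjective.denseRange.preconnectedSpace f.toNormalization.continuous
  haveI : Surjective τ := ⟨by
    rw [← Set.range_eq_univ]
    exact hclopen.eq_univ (Set.range_nonempty _)⟩
  have hsub : ∀ (Ω : Type u) [Field Ω] (x : Spec (CommRingCat.of Ω) ⟶ S),
      Subsingleton ↥(pullback f.fromNormalization x) := by
    intro Ω _ x
    let l := pullback.lift (x ≫ τ) (𝟙 _) (by rw [Category.assoc, hτ, Category.comp_id, Category.id_comp])
    have sq : IsPullback x l τ (pullback.fst f.fromNormalization x) := by
      refine IsPullback.of_bot ?_ (pullback.lift_fst _ _ _).symm (IsPullback.of_hasPullback f.fromNormalization x)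
      rw [hτ, show l ≫ pullback.snd f.fromNormalization x = 𝟙 _ from pullback.lift_snd _ _ _]
      exact IsPullback.id_vert x
    haveI : Surjective l := MorphismProperty.of_isPullback sq ‹Surjective τ›
    exact l.surjective.subsingleton (α := PrimeSpectrum Ω)
  refine ⟨geometrically_iff_of_isClosedUnderIsomorphisms.mpr fun Ω _ x => ?_⟩
  let π : pullback f x ⟶ pullback f.fromNormalization x :=
    pullback.lift (pullback.fst f x ≫ f.toNormalization) (pullback.snd f x) (by
      rw [Category.assoc, f.toNormalization_fromNormalization, pullback.condition])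
  have sq : IsPullback (pullback.fst f x) π f.toNormalization (pullback.fst f.fromNormalization x) := by
    refine IsPullback.of_bot ?_ (pullback.lift_fst _ _ _).symm (IsPullback.of_hasPullback f.fromNormalization x)
    rw [show π ≫ pullback.snd f.fromNormalization x = pullback.snd f x from pullback.lift_snd _ _ _,
      f.toNormalization_fromNormalization]
    exact IsPullback.of_hasPullback f x
  haveI : GeometricallyConnected π := MorphismProperty.of_isPullback sq ‹_›
  haveI := hsub Ω x
  haveI : Nonempty ↥(pullback f.fromNormalization x) := ⟨(pullback.lift (x ≫ τ) (𝟙 _) (by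
    rw [Category.assoc, hτ, Category.comp_id, Category.id_comp])) (IsLocalRing.closedPoint Ω)⟩
  exact GeometricallyConnected.connectedSpace_of_subsingleton (f := π)

end Groth.Agent.SteinUB
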