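import Groth.Agent.SteinUB.Radicial
import Groth.Agent.SteinLib.General
import Mathlib.AlgebraicGeometry.Morphisms.SchemeTheoreticallyDominant
import Mathlib.AlgebraicGeometry.Morphisms.UniversallyInjective
import Mathlib.AlgebraicGeometry.FunctionField

/-!
Connectedness of all fibres from the generic one, over a geometrically unibranch base.
-/

set_option autoImplicit false
set_option linter.style.haveILetI false
set_option backward.isDefEq.respectTransparency false
set_option backward.isDefEq.respectTransparency.types false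

universe u

open CategoryTheory CategoryTheory.Limits AlgebraicGeometry Polynomial

namespace Groth.Agent.SteinUB

theorem algHom_subsingleton {K R : Type u} [Field K] [CommRing R] [Algebra K R] [Algebra.IsIntegral K R]
    [ConnectedSpace (PrimeSpectrum R)] (φ₁ φ₂ : R →ₐ[K] K) : φ₁ = φ₂ := by
  have hidem : ∀ e : R, e * (1 - e) = 0 → e = 0 ∨ e = 1 := by
    intro e he
    have hei : IsIdempotentElem e := by
      show e * e = e
      linear_combination -he
    rcases isClopen_iff.1 (PrimeSpectrum.isClopen_basicOpen_of_mul_add e (1 - e) he (by ring)) with h | h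
    · refine Or.inl (PrimeSpectrum.basicOpen_injOn_isIdempotentElem hei IsIdempotentElem.zero ?_)
      rw [PrimeSpectrum.basicOpen_zero]
      exact TopologicalSpace.Opens.ext h
    · refine Or.inr (PrimeSpectrum.basicOpen_injOn_isIdempotentElem hei IsIdempotentElem.one ?_)
      rw [PrimeSpectrum.basicOpen_one]
      exact TopologicalSpace.Opens.ext h
  refine AlgHom.ext fun r => ?_
  let x := r - algebraMap K R (φ₁ r)
  have hx : φ₁ x = 0 := by simp [x]
  suffices h : IsNilpotent x by
    have := (h.map φ₂).eq_zero
    simp only [x, map_sub, AlgHom.commutes, sub_eq_zero] at this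
    exact this.symm
  obtain ⟨P, hP, hP0⟩ := Algebra.IsIntegral.isIntegral (R := K) x
  rw [← Polynomial.aeval_def] at hP0
  obtain ⟨u, hu, hnd⟩ := exists_eq_pow_rootMultiplicity_mul_and_not_dvd P hP.ne_zero 0
  rw [map_zero, sub_zero] at hu hnd
  generalize P.rootMultiplicity 0 = m at hu
  obtain ⟨a, b, hab⟩ := ((irreducible_X (R := K)).coprime_iff_not_dvd.2 hnd).pow_left (m := m)
  have hab' := congrArg (aeval x) hab
  simp only [map_add, map_mul, map_pow, aeval_X, map_one] at hab'
  rw [hu] at hP0
  simp only [map_mul, map_pow, aeval_X] at hP0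
  rcases hidem (aeval x a * x ^ m) (by
    linear_combination (aeval x a * aeval x b) * hP0 - (aeval x a * x ^ m) * hab') with h | h
  · refine ⟨m, ?_⟩
    linear_combination (x ^ m) * h - (x ^ m) * hab' + aeval x b * hP0
  · exfalso
    have hu0 : aeval x u = 0 := by linear_combination aeval x a * hP0 - aeval x u * h
    have := congrArg φ₁ hu0
    rw [← aeval_algHom_apply, hx, map_zero] at this
    exact hnd (Polynomial.X_dvd_iff.2 (by
      rw [Polynomial.coeff_zero_eq_eval_zero]
      simpa using this))

theorem sections_unique {K : Type u} [Field K] {Z : Scheme.{u}} (q : Z ⟶ Spec (CommRingCat.of K)) [IsIntegralHom q]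
    [ConnectedSpace Z] (s₁ s₂ : Spec (CommRingCat.of K) ⟶ Z) (h₁ : s₁ ≫ q = 𝟙 _) (h₂ : s₂ ≫ q = 𝟙 _) : s₁ = s₂ := by
  haveI : IsAffine Z := isAffine_of_isAffineHom q
  let ι₀ := (Scheme.ΓSpecIso (CommRingCat.of K)).inv
  let e₀ := (Scheme.ΓSpecIso (CommRingCat.of K)).hom
  letI : Algebra K Γ(Z, ⊤) := (ι₀ ≫ q.appTop).hom.toAlgebra
  haveI : Algebra.IsIntegral K Γ(Z, ⊤) := ⟨by
    have h := q.isIntegral_app ⊤ (isAffineOpen_top _)
    exact (RingHom.isIntegral_of_surjective ι₀.hom
      (ConcreteCategory.bijective_of_isIso ι₀).surjective).trans _ _ h⟩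
  haveI : ConnectedSpace (PrimeSpectrum Γ(Z, ⊤)) :=
    (Z.isoSpec.hom.homeomorph).connectedSpace_iff.1 ‹_›
  let ev : ∀ s : Spec (CommRingCat.of K) ⟶ Z, s ≫ q = 𝟙 _ → (Γ(Z, ⊤) →ₐ[K] K) := fun s hs =>
    { toRingHom := (s.appTop ≫ e₀).hom
      commutes' := fun a => by
        show (ι₀ ≫ q.appTop ≫ s.appTop ≫ e₀) a = a
        rw [← Category.assoc q.appTop, ← Scheme.Hom.comp_appTop, hs, Scheme.Hom.id_appTop, Category.id_comp,
          Iso.inv_hom_id]
        rfl }
  have := algHom_subsingleton (ev s₁ h₁) (ev s₂ h₂)
  refine ext_of_isAffine ?_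
  rw [← cancel_mono e₀]
  exact CommRingCat.hom_ext (congrArg AlgHom.toRingHom this)

theorem universallyInjective_fromNormalization {X S : Scheme.{u}} (f : X ⟶ S) [IsProper f] [IsDominant f]
    [IsIntegral X] [IsIntegral S] (hS : ∀ s : S, CAlg2.IsGeomUnibranch (S.presheaf.stalk s))
    (hη : GeometricallyConnected (f.fiberToSpecResidueField (genericPoint S))) :
    UniversallyInjective f.fromNormalization := by
  set g := f.fromNormalization with hg
  haveI hgc := SteinLib.geometricallyConnected_toNormalization_general f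
  haveI : Surjective f.toNormalization := inferInstance
  haveI : Surjective f := ⟨fun s => (f.isClosedMap.isClosed_range.closure_eq ▸ f.denseRange s :)⟩
  haveI : Surjective (f.toNormalization ≫ g) := by
    rw [f.toNormalization_fromNormalization]; infer_instance
  haveI : Surjective g := Surjective.of_comp f.toNormalization g
  haveI : IsSchemeTheoreticallyDominant g := .of_isDominant g
  -- uniqueness of points over the generic point
  have hgen : ∀ (K : Type u) (_ : Field K) (y₁ y₂ : Spec (CommRingCat.of K) ⟶ f.normalization),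
      y₁ ≫ g = y₂ ≫ g → (y₁ ≫ g) (IsLocalRing.closedPoint K) = genericPoint S → y₁ = y₂ := by
    intro K _ y₁ y₂ hy hpt
    let x := y₁ ≫ g
    obtain ⟨φ, hφ⟩ : ∃ φ : S.residueField (genericPoint S) ⟶ CommRingCat.of K,
        Spec.map φ ≫ S.fromSpecResidueField (genericPoint S) = x := by
      have := Scheme.descResidueField_stalkClosedPointTo_fromSpecResidueField K S x
      rw [← hpt]
      exact ⟨_, this⟩
    haveI : ConnectedSpace ↥(pullback f x) := by
      haveI := hη
      haveI : ConnectedSpace ↥(pullback (f.fiberToSpecResidueField (genericPoint S)) (Spec.map φ)) :=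
        GeometricallyConnected.geometrically_connectedSpace (f := f.fiberToSpecResidueField (genericPoint S))
          (Spec.map φ) _ _ (IsPullback.of_hasPullback _ _)
      rw [← hφ]
      exact (pullbackLeftPullbackSndIso f (S.fromSpecResidueField (genericPoint S)) (Spec.map φ)).hom.homeomorph.connectedSpace_iff.1 ‹_›
    let π : pullback f x ⟶ pullback g x :=
      pullback.lift (pullback.fst f x ≫ f.toNormalization) (pullback.snd f x) (by
        rw [Category.assoc, f.toNormalization_fromNormalization, pullback.condition])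
    have sq : IsPullback (pullback.fst f x) π f.toNormalization (pullback.fst g x) := by
      refine IsPullback.of_bot ?_ (pullback.lift_fst _ _ _).symm (IsPullback.of_hasPullback g x)
      rw [show π ≫ pullback.snd g x = pullback.snd f x from pullback.lift_snd _ _ _,
        f.toNormalization_fromNormalization]
      exact IsPullback.of_hasPullback f x
    haveI : Surjective π := MorphismProperty.of_isPullback sq ‹_›
    haveI : ConnectedSpace ↥(pullback g x) := π.surjective.connectedSpace π.continuous
    haveI : IsIntegralHom (pullback.snd g x) := MorphismProperty.pullback_snd _ _ inferInstance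
    have h := sections_unique (pullback.snd g x) (pullback.lift y₁ (𝟙 _) (Category.id_comp _).symm)
      (pullback.lift y₂ (𝟙 _) ((Category.id_comp x).trans hy).symm) (pullback.lift_snd _ _ _) (pullback.lift_snd _ _ _)
    simpa [pullback.lift_fst] using congrArg (· ≫ pullback.fst g x) h
  refine ((tfae_universallyInjective g).out 0 1).2 ?_
  intro K instK y₁ y₂ (hy : y₁ ≫ g = y₂ ≫ g)
  let s := (y₁ ≫ g) (IsLocalRing.closedPoint K)
  obtain ⟨U, hU, hsU, -⟩ := exists_isAffineOpen_mem_and_subset (X := S) (x := s) (U := ⊤) trivial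
  let V := g ⁻¹ᵁ U
  have hV : IsAffineOpen V := hU.preimage g
  haveI : Nonempty U := ⟨⟨s, hsU⟩⟩
  haveI : Nonempty V := by
    obtain ⟨v, hv⟩ := g.surjective s
    exact ⟨⟨v, show g v ∈ U by rw [hv]; exact hsU⟩⟩
  let A := Γ(S, U)
  let C := Γ(f.normalization, V)
  letI : Algebra A C := (g.app U).hom.toAlgebra
  haveI : Algebra.IsIntegral A C := ⟨g.isIntegral_app U hU⟩
  have hinj : Function.Injective (algebraMap A C) := g.app_injective U
  have hlift : ∀ (L : Type u) [Field L] (y : Spec (CommRingCat.of L) ⟶ f.normalization),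
      (y ≫ g) (IsLocalRing.closedPoint L) ∈ U → ∃ σ : C ⟶ CommRingCat.of L, Spec.map σ ≫ hV.fromSpec = y := by
    intro L _ y hyU
    have hr : Set.range y ⊆ Set.range hV.fromSpec := by
      rw [hV.range_fromSpec]
      rintro _ ⟨w, rfl⟩
      show g (y w) ∈ U
      rw [Subsingleton.elim (α := PrimeSpectrum L) w (IsLocalRing.closedPoint L)]
      exact hyU
    exact ⟨Spec.preimage (IsOpenImmersion.lift _ y hr), by rw [Spec.map_preimage, IsOpenImmersion.lift_fac]⟩
  have hcomm : ∀ {L : CommRingCat.{u}} (σ : C ⟶ L),
      Spec.map σ ≫ hV.fromSpec ≫ g = Spec.map (g.app U ≫ σ) ≫ hU.fromSpec := by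
    intro L σ
    rw [Spec.map_comp, Category.assoc, Scheme.Hom.app_eq_appLE, IsAffineOpen.SpecMap_appLE_fromSpec g hU hV]
  obtain ⟨p, hp⟩ := ExpChar.exists A
  haveI := hp
  haveI : IsDomain A := inferInstance
  haveI : IsDomain C := inferInstance
  -- generic pure inseparability
  have hpure : ∀ c : C, ∃ (n : ℕ) (a b : A), b ≠ 0 ∧ algebraMap A C b * c ^ p ^ n = algebraMap A C a := by
    let F := FractionRing A
    let L := FractionRing C
    haveI : FaithfulSMul A C := (faithfulSMul_iff_algebraMap_injective A C).2 hinj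
    haveI : Module.IsTorsionFree A C := Module.isTorsionFree_iff_algebraMap_injective.2 hinj
    haveI : Module.IsTorsionFree A L := Module.isTorsionFree_iff_algebraMap_injective.2 (by
      rw [IsScalarTower.algebraMap_eq A C L, RingHom.coe_comp]
      exact (IsFractionRing.injective C L).comp hinj)
    letI : Algebra F L := FractionRing.liftAlgebra A L
    haveI : IsScalarTower A F L := FractionRing.isScalarTower_liftAlgebra A L
    haveI : IsPurelyInseparable F L := by
      rw [isPurelyInseparable_iff_subsingleton_emb]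
      refine ⟨fun σ₁ σ₂ => AlgHom.coe_ringHom_injective ?_⟩
      refine IsLocalization.ringHom_ext (nonZeroDivisors C) ?_
      let Ω := AlgebraicClosure L
      let t₁ : C ⟶ CommRingCat.of Ω := CommRingCat.ofHom ((σ₁ : L →+* Ω).comp (algebraMap C L))
      let t₂ : C ⟶ CommRingCat.of Ω := CommRingCat.ofHom ((σ₂ : L →+* Ω).comp (algebraMap C L))
      have hA : ∀ (σ : L →ₐ[F] Ω) (a : A), σ (algebraMap C L (algebraMap A C a)) = algebraMap F Ω (algebraMap A F a) := by
        intro σ a
        rw [← IsScalarTower.algebraMap_apply A C L, IsScalarTower.algebraMap_apply A F L, σ.commutes]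
      have ht : g.app U ≫ t₁ = g.app U ≫ t₂ := by
        ext a
        exact (hA σ₁ a).trans (hA σ₂ a).symm
      have heq := hgen Ω inferInstance (Spec.map t₁ ≫ hV.fromSpec) (Spec.map t₂ ≫ hV.fromSpec)
        (by rw [Category.assoc, Category.assoc, hcomm, hcomm, ht]) (by
          rw [Category.assoc, hcomm, Scheme.Hom.comp_apply,
            show (Spec.map (g.app U ≫ t₁)) (IsLocalRing.closedPoint Ω) = genericPoint (Spec A) from ?_]
          · exact genericPoint_eq_of_isOpenImmersion hU.fromSpec
          · rw [AlgebraicGeometry.genericPoint_eq_bot_of_affine]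
            refine PrimeSpectrum.ext (Ideal.ext fun a => ?_)
            show (g.app U ≫ t₁).hom a ∈ IsLocalRing.maximalIdeal Ω ↔ a ∈ (⊥ : Ideal A)
            rw [IsLocalRing.maximalIdeal_eq_bot, Ideal.mem_bot, Ideal.mem_bot]
            show σ₁ (algebraMap C L (algebraMap A C a)) = 0 ↔ a = 0
            rw [hA, map_eq_zero, map_eq_zero_iff _ (IsFractionRing.injective A F)])
      exact congrArg CommRingCat.Hom.hom (Spec.map_injective ((cancel_mono hV.fromSpec).1 heq))
    haveI : ExpChar F p := expChar_of_injective_ringHom (IsFractionRing.injective A F) p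
    intro c
    obtain ⟨n, z, hz⟩ := IsPurelyInseparable.pow_mem F p (algebraMap C L c)
    obtain ⟨a, ⟨b, hb⟩, rfl⟩ := IsLocalization.exists_mk'_eq (nonZeroDivisors A) z
    refine ⟨n, a, b, nonZeroDivisors.ne_zero hb, IsFractionRing.injective C L ?_⟩
    rw [map_mul, map_pow, ← hz, ← IsScalarTower.algebraMap_apply A C L, ← IsScalarTower.algebraMap_apply A C L,
      IsScalarTower.algebraMap_apply A F L, IsScalarTower.algebraMap_apply A F L, ← map_mul,
      IsLocalization.mk'_spec'_mk]
  obtain ⟨σ₁, hσ₁⟩ := hlift K y₁ hsU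
  obtain ⟨σ₂, hσ₂⟩ := hlift K y₂ (by rw [← hy]; exact hsU)
  have hτ : g.app U ≫ σ₁ = g.app U ≫ σ₂ := by
    refine Spec.map_injective ((cancel_mono hU.fromSpec).1 ?_)
    rw [← hcomm, ← hcomm, ← Category.assoc, hσ₁, ← Category.assoc, hσ₂, hy]
  let P := RingHom.ker (σ₁.hom.comp (algebraMap A C))
  haveI : P.IsPrime := RingHom.ker_isPrime _
  have hPs : hU.fromSpec ⟨P, inferInstance⟩ = s := by
    show _ = (y₁ ≫ g) (IsLocalRing.closedPoint K)
    rw [← hσ₁, Category.assoc, hcomm, Scheme.Hom.comp_apply]
    congr 1
    refine PrimeSpectrum.ext (Ideal.ext fun a => ?_)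
    show a ∈ P ↔ σ₁ (g.app U a) ∈ IsLocalRing.maximalIdeal K
    rw [IsLocalRing.maximalIdeal_eq_bot, Ideal.mem_bot]
    rfl
  have hA : CAlg2.IsGeomUnibranch (Localization.AtPrime P) := by
    have hmem : hU.fromSpec ⟨P, inferInstance⟩ ∈ U := hPs ▸ hsU
    letI : Algebra A (S.presheaf.stalk (hU.fromSpec ⟨P, inferInstance⟩)) :=
      TopCat.Presheaf.algebra_section_stalk S.presheaf ⟨_, hmem⟩
    haveI : IsLocalization P.primeCompl (S.presheaf.stalk (hU.fromSpec ⟨P, inferInstance⟩)) :=
      hU.isLocalization_stalk' ⟨P, inferInstance⟩ hmem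
    exact IntBC.isGeomUnibranch_of_branch (IntBC.Branch.of_ringEquiv
      (IsLocalization.algEquiv P.primeCompl (S.presheaf.stalk (hU.fromSpec ⟨P, inferInstance⟩))
        (Localization.AtPrime P)).toRingEquiv (IntBC.branch_of_isGeomUnibranch (hS _)))
  have heq := hom_ext_of_isGeomUnibranch hinj p hpure σ₁.hom σ₂.hom (congrArg CommRingCat.Hom.hom hτ) P rfl hA
  rw [← hσ₁, ← hσ₂, CommRingCat.hom_ext heq]

theorem geometricallyConnected {X S : Scheme.{u}} (f : X ⟶ S) [IsProper f] [IsDominant f]
    [IsIntegral X] [IsIntegral S] (hS : ∀ s : S, CAlg2.IsGeomUnibranch (S.presheaf.stalk s))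
    (hη : GeometricallyConnected (f.fiberToSpecResidueField (genericPoint S))) : GeometricallyConnected f := by
  haveI := universallyInjective_fromNormalization f hS hη
  haveI := SteinLib.geometricallyConnected_toNormalization_general f
  haveI : IsProper f.toNormalization := SteinLib.isProper_toNormalization f
  haveI : Surjective f := ⟨fun s => (f.isClosedMap.isClosed_range.closure_eq ▸ f.denseRange s :)⟩
  set g := f.fromNormalization
  haveI : Surjective (f.toNormalization ≫ g) := by
    rw [f.toNormalization_fromNormalization]; infer_instance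
  haveI : Surjective g := Surjective.of_comp f.toNormalization g
  refine ⟨geometrically_iff_of_isClosedUnderIsomorphisms.mpr fun K _ x => ?_⟩
  let π : pullback f x ⟶ pullback g x :=
    pullback.lift (pullback.fst f x ≫ f.toNormalization) (pullback.snd f x) (by
      rw [Category.assoc, f.toNormalization_fromNormalization, pullback.condition])
  have sq : IsPullback (pullback.fst f x) π f.toNormalization (pullback.fst g x) := by
    refine IsPullback.of_bot ?_ (pullback.lift_fst _ _ _).symm (IsPullback.of_hasPullback g x)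
    rw [show π ≫ pullback.snd g x = pullback.snd f x from pullback.lift_snd _ _ _,
      f.toNormalization_fromNormalization]
    exact IsPullback.of_hasPullback f x
  haveI : GeometricallyConnected π := MorphismProperty.of_isPullback sq ‹_›
  haveI : UniversallyInjective (pullback.snd g x) := MorphismProperty.pullback_snd _ _ ‹_›
  haveI : Subsingleton ↥(pullback g x) := (pullback.snd g x).injective.subsingleton (β := PrimeSpectrum K)
  haveI : Nonempty ↥(pullback g x) := (pullback.snd g x).surjective.nonempty (β := PrimeSpectrum K)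
  exact GeometricallyConnected.connectedSpace_of_subsingleton (f := π)

end Groth.Agent.SteinUB
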