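import Groth.Agent.SteinUB.Conn
import Groth.Agent.MorLib.UnivHomeo
import Groth.Agent.S0415

/-!
The Stein factorization commutes with base change up to a universal homeomorphism.
-/

set_option autoImplicit false
set_option linter.style.haveILetI false
set_option backward.isDefEq.respectTransparency false
set_option backward.isDefEq.respectTransparency.types false

universe u

open CategoryTheory CategoryTheory.Limits AlgebraicGeometry

namespace Groth.Agent.SteinUB

/-- An integral morphism through which a geometrically connected morphism factors by a surjection is radicial. -/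
theorem universallyInjective_of_factor {A B C : Scheme.{u}} (n : A ⟶ B) (φ : B ⟶ C) [Surjective n]
    [IsIntegralHom φ] [GeometricallyConnected (n ≫ φ)] : UniversallyInjective φ := by
  refine ((tfae_universallyInjective φ).out 0 1).2 ?_
  intro K instK y₁ y₂ (hy : y₁ ≫ φ = y₂ ≫ φ)
  let x := y₁ ≫ φ
  haveI : ConnectedSpace ↥(pullback (n ≫ φ) x) :=
    GeometricallyConnected.geometrically_connectedSpace (f := n ≫ φ) x _ _ (IsPullback.of_hasPullback _ _)
  let π : pullback (n ≫ φ) x ⟶ pullback φ x :=
    pullback.lift (pullback.fst (n ≫ φ) x ≫ n) (pullback.snd (n ≫ φ) x) (by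
      rw [Category.assoc, pullback.condition])
  have sq : IsPullback (pullback.fst (n ≫ φ) x) π n (pullback.fst φ x) := by
    refine IsPullback.of_bot ?_ (pullback.lift_fst _ _ _).symm (IsPullback.of_hasPullback φ x)
    rw [show π ≫ pullback.snd φ x = pullback.snd (n ≫ φ) x from pullback.lift_snd _ _ _]
    exact IsPullback.of_hasPullback (n ≫ φ) x
  haveI : Surjective π := MorphismProperty.of_isPullback sq ‹_›
  haveI : ConnectedSpace ↥(pullback φ x) := π.surjective.connectedSpace π.continuous
  haveI : IsIntegralHom (pullback.snd φ x) := MorphismProperty.pullback_snd _ _ inferInstance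
  have h := sections_unique (pullback.snd φ x) (pullback.lift y₁ (𝟙 _) (Category.id_comp _).symm)
    (pullback.lift y₂ (𝟙 _) ((Category.id_comp x).trans hy).symm) (pullback.lift_snd _ _ _) (pullback.lift_snd _ _ _)
  simpa [pullback.lift_fst] using congrArg (· ≫ pullback.fst φ x) h

theorem isUnivHomeo_normalizationPullback {X S T : Scheme.{u}} (f : X ⟶ S) [IsProper f] (g : T ⟶ S) :
    FlatMor.IsUnivHomeo (f.normalizationPullback g) := by
  haveI := SteinLib.geometricallyConnected_toNormalization_general f
  haveI : IsProper (pullback.snd f g) := MorphismProperty.pullback_snd _ _ inferInstance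
  haveI := SteinLib.geometricallyConnected_toNormalization_general (pullback.snd f g)
  set n := (pullback.snd f g).toNormalization
  set φ := f.normalizationPullback g
  haveI : Surjective n := inferInstance
  have h1 : n ≫ φ ≫ pullback.fst f.fromNormalization g = pullback.fst f g ≫ f.toNormalization :=
    f.toNormalization_normalizationPullback_fst g
  have h2 : n ≫ φ ≫ pullback.snd f.fromNormalization g = pullback.snd f g := by
    rw [f.normalizationPullback_snd, (pullback.snd f g).toNormalization_fromNormalization]
  have sq : IsPullback (pullback.fst f g) (n ≫ φ) f.toNormalization (pullback.fst f.fromNormalization g) := by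
    refine IsPullback.of_bot ?_ (by rw [Category.assoc, h1]) (IsPullback.of_hasPullback f.fromNormalization g)
    rw [Category.assoc, h2, f.toNormalization_fromNormalization]
    exact IsPullback.of_hasPullback f g
  haveI : GeometricallyConnected (n ≫ φ) := MorphismProperty.of_isPullback sq ‹_›
  haveI : Surjective (n ≫ φ) := inferInstance
  haveI : Surjective φ := Surjective.of_comp n φ
  exact (S0415.result φ).2 ⟨inferInstance, universallyInjective_of_factor n φ, inferInstance⟩

end Groth.Agent.SteinUB
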