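import Groth.Agent.IntBC.UnibranchDescent
import Mathlib.FieldTheory.IsAlgClosed.AlgebraicClosure
import Mathlib.FieldTheory.PurelyInseparable.Basic
import Mathlib.RingTheory.Localization.Integral
import Mathlib.Algebra.CharP.Reduced

/-!
An integral extension which is generically purely inseparable is radicial over a geometrically unibranch point.
-/

set_option autoImplicit false
set_option linter.style.haveILetI false

namespace Groth.Agent.SteinUB

universe u

open IsLocalRing

/-- The ring-theoretic form of radiciality over a geometrically unibranch local domain. -/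
theorem local_radicial {O C : Type u} [CommRing O] [IsDomain O] [IsLocalRing O] [CommRing C] [IsDomain C] [Algebra O C]
    [Algebra.IsIntegral O C] (hinj : Function.Injective (algebraMap O C)) (hO : CAlg2.IsGeomUnibranch O)
    (p : ℕ) [ExpChar O p]
    (hgen : ∀ c : C, ∃ (n : ℕ) (a b : O), b ≠ 0 ∧ algebraMap O C b * c ^ p ^ n = algebraMap O C a)
    {K : Type u} [Field K] (e : ℕ) [ExpChar K e] (φ : C →+* K)
    (hφ : ∀ a ∈ maximalIdeal O, φ (algebraMap O C a) = 0) (c : C) :
    ∃ (n l : ℕ) (a : O), (∀ (K' : Type u) (_ : Field K') (φ' : C →+* K'),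
      (∀ a ∈ maximalIdeal O, φ' (algebraMap O C a) = 0) → φ' (c ^ (p ^ n * e ^ l)) = φ' (algebraMap O C a)) := by
  obtain ⟨D, _, _, _, _, hD, hker, hint, hins⟩ := IntBC.branch_of_isGeomUnibranch hO
  haveI := hD
  have hinjD : Function.Injective (algebraMap O D) := by
    rw [injective_iff_map_eq_zero]
    exact fun a ha => (hker a ha).eq_zero
  let Ω := AlgebraicClosure (FractionRing D)
  haveI : IsScalarTower O D Ω := inferInstance
  have hDΩ : Function.Injective (algebraMap D Ω) := by
    rw [IsScalarTower.algebraMap_eq D (FractionRing D) Ω, RingHom.coe_comp]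
    exact (algebraMap (FractionRing D) Ω).injective.comp (IsFractionRing.injective D (FractionRing D))
  have hOΩ : Function.Injective (algebraMap O Ω) := by
    rw [IsScalarTower.algebraMap_eq O D Ω, RingHom.coe_comp]
    exact hDΩ.comp hinjD
  haveI : Module.IsTorsionFree O C := Module.isTorsionFree_iff_algebraMap_injective.2 hinj
  haveI : Module.IsTorsionFree O Ω := Module.isTorsionFree_iff_algebraMap_injective.2 hOΩ
  haveI : Algebra.IsAlgebraic O C := Algebra.IsIntegral.isAlgebraic
  let i : C →ₐ[O] Ω := IsAlgClosed.lift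
  obtain ⟨n, a, b, hb, hab⟩ := hgen c
  have hbΩ : algebraMap O Ω b ≠ 0 := fun h => hb (hOΩ (by rw [h, map_zero]))
  have hb0 : algebraMap D (FractionRing D) (algebraMap O D b) ≠ 0 := fun h => hb (hinjD (by
    rw [map_zero]
    exact IsFractionRing.injective D (FractionRing D) (h.trans (map_zero _).symm)))
  let x : FractionRing D := algebraMap D _ (algebraMap O D a) / algebraMap D _ (algebraMap O D b)
  have hx : algebraMap (FractionRing D) Ω x = i (c ^ p ^ n) := by
    rw [map_div₀, ← IsScalarTower.algebraMap_apply, ← IsScalarTower.algebraMap_apply,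
      div_eq_iff (by rw [← IsScalarTower.algebraMap_apply]; exact hbΩ)]
    show algebraMap O Ω a = i (c ^ p ^ n) * algebraMap O Ω b
    rw [← i.commutes b, ← map_mul, mul_comm, hab, i.commutes]
  have hxint : IsIntegral D (algebraMap (FractionRing D) Ω x) := by
    rw [hx]
    exact ((Algebra.IsIntegral.isIntegral (R := O) (c ^ p ^ n)).map i).tower_top
  obtain ⟨d, hd⟩ := IsIntegrallyClosed.isIntegral_iff.1
    ((isIntegral_algebraMap_iff (algebraMap (FractionRing D) Ω).injective).1 hxint)
  have hid : i (c ^ p ^ n) = algebraMap D Ω d := by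
    rw [← hx, ← hd, ← IsScalarTower.algebraMap_apply]
  obtain ⟨l, a', ha'⟩ := hins d
  have he : ringExpChar (ResidueField D) = e := by
    let ψ : ResidueField O →+* K := Ideal.Quotient.lift (maximalIdeal O) (φ.comp (algebraMap O C)) hφ
    haveI : IsLocalHom (algebraMap O D) := RingHom.IsIntegral.isLocalHom hint.isIntegral hinjD
    haveI : ExpChar (ResidueField O) e := RingHom.expChar ψ ψ.injective e
    haveI : ExpChar (ResidueField D) e :=
      expChar_of_injective_ringHom (ResidueField.map (algebraMap O D)).injective e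
    exact ringExpChar.eq _ e
  rw [he] at ha'
  refine ⟨n, l, a', fun K' _ φ' hφ' => ?_⟩
  let E : Subalgebra O Ω := integralClosure O Ω
  let j : C →ₐ[O] E := i.codRestrict E fun z => (Algebra.IsIntegral.isIntegral (R := O) z).map i
  let k : D →ₐ[O] E := (IsScalarTower.toAlgHom O D Ω).codRestrict E fun z => (Algebra.IsIntegral.isIntegral (R := O) z).map (IsScalarTower.toAlgHom O D Ω)
  have hjint : (j : C →+* E).IsIntegral := by
    refine RingHom.IsIntegral.tower_top (algebraMap O C) _ ?_
    rw [j.comp_algebraMap]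
    exact Algebra.IsIntegral.isIntegral (R := O) (A := E)
  have hkint : (k : D →+* E).IsIntegral := by
    refine RingHom.IsIntegral.tower_top (algebraMap O D) _ ?_
    rw [k.comp_algebraMap]
    exact Algebra.IsIntegral.isIntegral (R := O) (A := E)
  have hiinj : Function.Injective i := by
    rw [injective_iff_map_eq_zero]
    intro z hz
    have hbot : RingHom.ker (i : C →+* Ω) = ⊥ := Ideal.eq_bot_of_comap_eq_bot (R := O) (by
      ext o
      rw [Ideal.mem_comap, RingHom.mem_ker, Ideal.mem_bot]
      show i (algebraMap O C o) = 0 ↔ o = 0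
      rw [i.commutes]
      exact map_eq_zero_iff _ hOΩ)
    have : z ∈ RingHom.ker (i : C →+* Ω) := hz
    rw [hbot] at this
    exact this
  letI : Algebra C E := (j : C →+* E).toAlgebra
  haveI : Algebra.IsIntegral C E := ⟨hjint⟩
  haveI : (RingHom.ker φ').IsPrime := RingHom.ker_isPrime φ'
  obtain ⟨P, -, hP, hPc⟩ := Ideal.exists_ideal_over_prime_of_isIntegral (S := E) (RingHom.ker φ') (⊥ : Ideal E)
    (fun z hz => by
      have h0 : j z = 0 := hz
      rw [show z = 0 from hiinj ((congrArg Subtype.val h0).trans (map_zero i).symm)]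
      exact zero_mem _)
  have hmem : ∀ z : C, j z ∈ P ↔ φ' z = 0 := fun z => by
    rw [← RingHom.mem_ker, ← hPc]
    rfl
  have hPD : P.comap (k : D →+* E) = maximalIdeal D := by
    haveI : (P.comap (k : D →+* E)).IsPrime := Ideal.comap_isPrime _ P
    refine IsLocalRing.eq_maximalIdeal ?_
    haveI := hint
    refine Ideal.isMaximal_of_isIntegral_of_isMaximal_comap (R := O) _ ?_
    have : (P.comap (k : D →+* E)).comap (algebraMap O D) = maximalIdeal O := by
      symm
      refine (maximalIdeal.isMaximal O).eq_of_le ?_ fun o ho => ?_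
      · exact Ideal.comap_ne_top _ (Ideal.IsPrime.ne_top ‹_›)
      · rw [Ideal.mem_comap, Ideal.mem_comap]
        show k (algebraMap O D o) ∈ P
        rw [k.commutes, ← j.commutes]
        exact (hmem _).2 (hφ' o ho)
    rw [this]
    exact maximalIdeal.isMaximal O
  rw [← sub_eq_zero, ← map_sub, ← hmem]
  rw [← hPD, Ideal.mem_comap] at ha'
  convert ha' using 1
  apply Subtype.ext
  show i (c ^ (p ^ n * e ^ l) - algebraMap O C a') = algebraMap D Ω (d ^ e ^ l - algebraMap O D a')
  rw [map_sub, map_sub, i.commutes, pow_mul, map_pow, hid, map_pow, ← IsScalarTower.algebraMap_apply]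

/-- Points of an integral generically purely inseparable extension over a geometrically unibranch point are determined
by the point of the base. -/
theorem hom_ext_of_isGeomUnibranch {A C : Type u} [CommRing A] [IsDomain A] [CommRing C] [IsDomain C] [Algebra A C]
    [Algebra.IsIntegral A C] (hinj : Function.Injective (algebraMap A C)) (p : ℕ) [ExpChar A p]
    (hgen : ∀ c : C, ∃ (n : ℕ) (a b : A), b ≠ 0 ∧ algebraMap A C b * c ^ p ^ n = algebraMap A C a)
    {K : Type u} [Field K] (φ₁ φ₂ : C →+* K) (h : φ₁.comp (algebraMap A C) = φ₂.comp (algebraMap A C))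
    (P : Ideal A) [P.IsPrime] (hP : RingHom.ker (φ₁.comp (algebraMap A C)) = P)
    (hA : CAlg2.IsGeomUnibranch (Localization.AtPrime P)) : φ₁ = φ₂ := by
  let M := Algebra.algebraMapSubmonoid C P.primeCompl
  let O := Localization.AtPrime P
  let C' := Localization M
  have hM0 : M ≤ nonZeroDivisors C := by
    rintro _ ⟨s, hs, rfl⟩
    refine mem_nonZeroDivisors_of_ne_zero fun h0 => ?_
    rw [show s = 0 from hinj (h0.trans (map_zero _).symm)] at hs
    exact hs (zero_mem P)
  haveI : IsDomain O := IsLocalization.isDomain_localization P.primeCompl_le_nonZeroDivisors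
  haveI : IsDomain C' := IsLocalization.isDomain_localization hM0
  letI : Algebra O C' := localizationAlgebra P.primeCompl C
  haveI : IsScalarTower A O C' := isScalarTower_localizationAlgebra (Rₘ := O) (Sₘ := C') P.primeCompl C
  haveI : Algebra.IsIntegral O C' := ⟨isIntegral_localization (M := P.primeCompl)⟩
  have hOC : Function.Injective (algebraMap O C') := localizationAlgebra_injective _ _ hinj
  haveI : ExpChar O p := expChar_of_injective_ringHom (IsLocalization.injective O P.primeCompl_le_nonZeroDivisors) p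
  have hcomm : ∀ a : A, algebraMap O C' (algebraMap A O a) = algebraMap C C' (algebraMap A C a) := fun a => by
    rw [← IsScalarTower.algebraMap_apply, ← IsScalarTower.algebraMap_apply]
  have hgen' : ∀ c : C', ∃ (n : ℕ) (a b : O), b ≠ 0 ∧ algebraMap O C' b * c ^ p ^ n = algebraMap O C' a := by
    intro z
    obtain ⟨c, ⟨_, s, hs, rfl⟩, rfl⟩ := IsLocalization.exists_mk'_eq M z
    obtain ⟨n, a, b, hb, hab⟩ := hgen c
    have hs0 : s ≠ 0 := fun h0 => hs (h0 ▸ zero_mem P)
    refine ⟨n, algebraMap A O a, algebraMap A O (b * s ^ p ^ n), ?_, ?_⟩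
    · intro h0
      exact mul_ne_zero hb (pow_ne_zero _ hs0)
        (IsLocalization.injective O P.primeCompl_le_nonZeroDivisors (h0.trans (map_zero _).symm))
    · rw [hcomm, hcomm, map_mul, map_mul, map_pow, map_pow, mul_assoc, ← mul_pow, IsLocalization.mk'_spec'_mk,
        ← map_pow, ← map_mul, hab]
  have hu : ∀ φ : C →+* K, φ.comp (algebraMap A C) = φ₁.comp (algebraMap A C) →
      ∃ φ' : C' →+* K, φ'.comp (algebraMap C C') = φ ∧ ∀ a ∈ maximalIdeal O, φ' (algebraMap O C' a) = 0 := by
    intro φ hφ
    have hunit : ∀ y : M, IsUnit (φ y) := by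
      rintro ⟨_, s, hs, rfl⟩
      refine isUnit_iff_ne_zero.2 fun h0 => hs ?_
      show s ∈ P
      rw [← hP, RingHom.mem_ker, ← hφ]
      exact h0
    refine ⟨IsLocalization.lift hunit, IsLocalization.lift_comp hunit, fun o ho => ?_⟩
    obtain ⟨a, s, rfl⟩ := IsLocalization.exists_mk'_eq P.primeCompl o
    rw [IsLocalization.AtPrime.mk'_mem_maximal_iff O P] at ho
    have h1 : IsLocalization.lift hunit (algebraMap O C' (algebraMap A O a)) = 0 := by
      rw [hcomm, IsLocalization.lift_eq]
      exact (RingHom.congr_fun hφ a).trans (RingHom.mem_ker.1 (hP ▸ ho))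
    rw [← IsLocalization.mk'_spec O a s, map_mul, map_mul] at h1
    refine (mul_eq_zero.1 h1).resolve_right fun h2 => ?_
    rw [hcomm, IsLocalization.lift_eq] at h2
    exact (hunit ⟨_, s, s.2, rfl⟩).ne_zero h2
  obtain ⟨ψ₁, e1, k1⟩ := hu φ₁ rfl
  obtain ⟨ψ₂, e2, k2⟩ := hu φ₂ h.symm
  have hψ : ψ₁.comp (algebraMap O C') = ψ₂.comp (algebraMap O C') := by
    refine IsLocalization.ringHom_ext P.primeCompl (RingHom.ext fun a => ?_)
    show ψ₁ (algebraMap O C' (algebraMap A O a)) = ψ₂ (algebraMap O C' (algebraMap A O a))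
    rw [hcomm, ← RingHom.comp_apply ψ₁, ← RingHom.comp_apply ψ₂, e1, e2]
    exact RingHom.congr_fun h a
  obtain ⟨e, he⟩ := ExpChar.exists K
  haveI := he
  have hpe : ∀ n, ∃ r, p ^ n = e ^ r := fun n => by
    cases ‹ExpChar A p› with
    | zero => exact ⟨0, by simp⟩
    | prime hp =>
      haveI := Fact.mk hp
      refine ⟨n, ?_⟩
      have hK : (p : K) = 0 := by rw [← map_natCast (φ₁.comp (algebraMap A C)), CharP.cast_eq_zero, map_zero]
      haveI : CharP K p := (CharP.charP_iff_prime_eq_zero hp).2 hK
      rw [ExpChar.eq ‹ExpChar K e› (ExpChar.prime hp : ExpChar K p)]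
  refine RingHom.ext fun c => ?_
  obtain ⟨n, l, a, key⟩ := local_radicial hOC hA p hgen' e ψ₁ k1 (algebraMap C C' c)
  obtain ⟨r, hr⟩ := hpe n
  have h1 := key K inferInstance ψ₁ k1
  have h2 := key K inferInstance ψ₂ k2
  rw [show ψ₁ (algebraMap O C' a) = ψ₂ (algebraMap O C' a) from RingHom.congr_fun hψ a, ← h2,
    map_pow, map_pow, ← RingHom.comp_apply ψ₁, ← RingHom.comp_apply ψ₂, e1, e2, hr, ← pow_add] at h1
  exact iterateFrobenius_inj K e (r + l) (by simpa [iterateFrobenius_def] using h1)

end Groth.Agent.SteinUB
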